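import Mathlib.RingTheory.Nullstellensatz
import Mathlib.RingTheory.Artinian.Ring
import Mathlib.RingTheory.Spectrum.Prime.Noetherian
import Mathlib.RingTheory.Localization.AtPrime.Basic
import Mathlib.RingTheory.Localization.Ideal
import Mathlib.LinearAlgebra.Dimension.Constructions
import Mathlib.LinearAlgebra.FiniteDimensional.Defs

/-!
# The dimension of `k[x]/I` is the sum of the local dimensions at the zeros of `I`
-/

set_option autoImplicit false
universe u

namespace Groth.Agent.Vancyc.H943.LocalSum

open MvPolynomial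

section artin

variable {k A : Type u} [Field k] [CommRing A] [Algebra k A] [Module.Finite k A]

/-- a finite dimensional algebra over a field is the product of its local rings. -/
theorem finrank_eq_sum_prime [IsArtinianRing A] :
    Module.finrank k A = ∑ᶠ p : PrimeSpectrum A, Module.finrank k (Localization.AtPrime p.asIdeal) := by
  classical
  have hfin : Finite (PrimeSpectrum A) := inferInstance
  let _ : Fintype (PrimeSpectrum A) := Fintype.ofFinite _
  have hf : ∀ p : PrimeSpectrum A, Module.Finite k (Localization.AtPrime p.asIdeal) := fun p =>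
    Module.Finite.of_surjective (IsScalarTower.toAlgHom k A (Localization.AtPrime p.asIdeal)).toLinearMap
      (IsArtinianRing.localization_surjective p.asIdeal.primeCompl _)
  let e : A ≃ₐ[A] PrimeSpectrum.PiLocalization A :=
    AlgEquiv.ofBijective (PrimeSpectrum.toPiLocalization A) PrimeSpectrum.toPiLocalization_bijective
  let e' : A ≃ₗ[k] PrimeSpectrum.PiLocalization A := e.toLinearEquiv.restrictScalars k
  rw [e'.finrank_eq, finsum_eq_sum_of_fintype]
  exact Module.finrank_pi_fintype k

end artin

variable (k : Type u) [Field k] (m : ℕ)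

theorem ker_eval_eq (a : Fin m → k) :
    RingHom.ker (MvPolynomial.eval a : MvPolynomial (Fin m) k →+* k) = vanishingIdeal k {a} := by
  ext p
  rw [RingHom.mem_ker, mem_vanishingIdeal_singleton_iff]
  rfl

variable {k m}

theorem finrank_local_eq (I : Ideal (MvPolynomial (Fin m) k)) (P : Ideal (MvPolynomial (Fin m) k)) [P.IsPrime]
    (Q : Ideal (MvPolynomial (Fin m) k ⧸ I)) [Q.IsPrime] (hQ : Q.comap (Ideal.Quotient.mk I) = P) :
    Module.finrank k (Localization.AtPrime Q) =
      Module.finrank k (Localization.AtPrime P ⧸ I.map (algebraMap (MvPolynomial (Fin m) k) (Localization.AtPrime P))) := by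
  have h1 : Algebra.algebraMapSubmonoid (MvPolynomial (Fin m) k ⧸ I) P.primeCompl = Q.primeCompl := by
    ext x
    obtain ⟨x, rfl⟩ := Ideal.Quotient.mk_surjective x
    constructor
    · rintro ⟨y, hy, hxy⟩ hx
      have : Ideal.Quotient.mk I y ∈ Q := by
        have h2 : Ideal.Quotient.mk I y = Ideal.Quotient.mk I x := hxy
        rw [h2]; exact hx
      exact hy (hQ ▸ this)
    · intro hx
      exact ⟨x, fun h => hx (by rw [← hQ] at h; exact h), rfl⟩
  have h2 : IsLocalization Q.primeCompl
      (Localization.AtPrime P ⧸ I.map (algebraMap (MvPolynomial (Fin m) k) (Localization.AtPrime P))) := by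
    rw [← h1]; infer_instance
  let e := IsLocalization.algEquiv Q.primeCompl (Localization.AtPrime Q)
    (Localization.AtPrime P ⧸ I.map (algebraMap (MvPolynomial (Fin m) k) (Localization.AtPrime P)))
  have h3 : IsScalarTower k (MvPolynomial (Fin m) k ⧸ I)
      (Localization.AtPrime P ⧸ I.map (algebraMap (MvPolynomial (Fin m) k) (Localization.AtPrime P))) :=
    IsScalarTower.of_algebraMap_eq (R := k) (S := MvPolynomial (Fin m) k ⧸ I)
      (A := Localization.AtPrime P ⧸ I.map (algebraMap (MvPolynomial (Fin m) k) (Localization.AtPrime P)))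
      (fun x => by
        change Ideal.Quotient.mk _ (algebraMap k (Localization.AtPrime P) x) =
          Ideal.Quotient.mk _ (algebraMap (MvPolynomial (Fin m) k) (Localization.AtPrime P)
            (algebraMap k (MvPolynomial (Fin m) k) x))
        rw [← IsScalarTower.algebraMap_apply])
  exact (e.toLinearEquiv.restrictScalars k).finrank_eq

/-- C2 -/
theorem finrank_eq_sum_local (k : Type u) [Field k] [IsAlgClosed k] (m : ℕ) (I : Ideal (MvPolynomial (Fin m) k))
    [Module.Finite k (MvPolynomial (Fin m) k ⧸ I)] :
    ∃ hZ : {a : Fin m → k | ∀ p ∈ I, MvPolynomial.eval a p = 0}.Finite,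
      Module.finrank k (MvPolynomial (Fin m) k ⧸ I) =
        ∑ a ∈ hZ.toFinset,
          haveI : (RingHom.ker (MvPolynomial.eval a : MvPolynomial (Fin m) k →+* k)).IsPrime := RingHom.ker_isPrime _
          Module.finrank k
          (Localization.AtPrime (RingHom.ker (MvPolynomial.eval a : MvPolynomial (Fin m) k →+* k)) ⧸
            I.map (algebraMap (MvPolynomial (Fin m) k)
              (Localization.AtPrime (RingHom.ker (MvPolynomial.eval a : MvPolynomial (Fin m) k →+* k))))) := by
  classical
  have hart : IsArtinianRing (MvPolynomial (Fin m) k ⧸ I) := IsArtinianRing.of_finite k _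
  let Z : Set (Fin m → k) := {a : Fin m → k | ∀ p ∈ I, MvPolynomial.eval a p = 0}
  -- the point of `Spec A` attached to a zero
  let φ : Z → PrimeSpectrum (MvPolynomial (Fin m) k ⧸ I) := fun a =>
    ⟨RingHom.ker (Ideal.Quotient.lift I (MvPolynomial.eval a.1) a.2), RingHom.ker_isPrime _⟩
  have hφ : ∀ a : Z, (φ a).asIdeal.comap (Ideal.Quotient.mk I) =
      RingHom.ker (MvPolynomial.eval a.1 : MvPolynomial (Fin m) k →+* k) := by
    intro a
    ext p
    change Ideal.Quotient.lift I (MvPolynomial.eval a.1) a.2 (Ideal.Quotient.mk I p) = 0 ↔ _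
    rw [Ideal.Quotient.lift_mk, RingHom.mem_ker]
  have hinj : Function.Injective φ := by
    intro a b hab
    have h1 : RingHom.ker (MvPolynomial.eval a.1 : MvPolynomial (Fin m) k →+* k) =
        RingHom.ker (MvPolynomial.eval b.1 : MvPolynomial (Fin m) k →+* k) := by
      rw [← hφ a, ← hφ b, hab]
    apply Subtype.ext
    funext i
    have h2 : (X i - C (a.1 i) : MvPolynomial (Fin m) k) ∈
        RingHom.ker (MvPolynomial.eval a.1 : MvPolynomial (Fin m) k →+* k) := by
      simp [RingHom.mem_ker]
    rw [h1, RingHom.mem_ker] at h2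
    simp only [map_sub, eval_X, eval_C] at h2
    exact (sub_eq_zero.mp h2).symm
  have hsurj : Function.Surjective φ := by
    intro q
    have hq : q.asIdeal.IsMaximal := inferInstance
    have hq' : (q.asIdeal.comap (Ideal.Quotient.mk I)).IsMaximal :=
      Ideal.comap_isMaximal_of_surjective _ Ideal.Quotient.mk_surjective
    obtain ⟨a, ha⟩ := isMaximal_iff_eq_vanishingIdeal_singleton.mp hq'
    rw [← ker_eval_eq] at ha
    have haZ : a ∈ Z := by
      intro p hp
      have : p ∈ q.asIdeal.comap (Ideal.Quotient.mk I) := by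
        rw [Ideal.mem_comap, Ideal.Quotient.eq_zero_iff_mem.mpr hp]
        exact zero_mem _
      rw [ha] at this
      exact this
    refine ⟨⟨a, haZ⟩, ?_⟩
    apply PrimeSpectrum.ext
    have h1 : (φ ⟨a, haZ⟩).asIdeal.comap (Ideal.Quotient.mk I) = q.asIdeal.comap (Ideal.Quotient.mk I) := by
      rw [hφ, ha]
    exact Ideal.comap_injective_of_surjective _ Ideal.Quotient.mk_surjective h1
  let e : Z ≃ PrimeSpectrum (MvPolynomial (Fin m) k ⧸ I) := Equiv.ofBijective φ ⟨hinj, hsurj⟩
  have hfin : Finite Z := Finite.of_equiv _ e.symm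
  refine ⟨Set.toFinite Z, ?_⟩
  rw [finrank_eq_sum_prime, ← finsum_comp_equiv e]
  let _ : Fintype Z := Fintype.ofFinite _
  rw [finsum_eq_sum_of_fintype]
  rw [Finset.sum_subtype (Set.toFinite Z).toFinset (p := fun a => a ∈ Z) (fun x => by simp [Z])
    (fun a => haveI : (RingHom.ker (MvPolynomial.eval a : MvPolynomial (Fin m) k →+* k)).IsPrime := RingHom.ker_isPrime _
          Module.finrank k
          (Localization.AtPrime (RingHom.ker (MvPolynomial.eval a : MvPolynomial (Fin m) k →+* k)) ⧸
            I.map (algebraMap (MvPolynomial (Fin m) k)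
              (Localization.AtPrime (RingHom.ker (MvPolynomial.eval a : MvPolynomial (Fin m) k →+* k))))))]
  refine Finset.sum_congr rfl fun a _ => ?_
  have : (RingHom.ker (MvPolynomial.eval a.1 : MvPolynomial (Fin m) k →+* k)).IsPrime := RingHom.ker_isPrime _
  exact finrank_local_eq I _ _ (hφ a)

end Groth.Agent.Vancyc.H943.LocalSum
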